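import Mathlib.Algebra.Category.Ring.Constructions
import Mathlib.RingTheory.Ideal.Maps
import Mathlib.RingTheory.TensorProduct.Basic
import Mathlib.RingTheory.Ideal.Quotient.Operations

/-!
# Base change of rings of principal parts

`p, q : B → T` behave like the two structure maps into `(B ⊗[A] B) / I^(n+1)`; then `B' ⊗[B] T` maps
bijectively onto `(B' ⊗[A'] B') / I'^(n+1)` when `B' = A' ⊗[A] B`.
-/

set_option autoImplicit false
set_option maxHeartbeats 1000000

universe u

open CategoryTheory CategoryTheory.Limits TensorProduct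

noncomputable section

namespace GrothLib.PPBC29

/-- The span of elements whose products of length `m` vanish has vanishing `m`-th power. -/
theorem span_pow_eq_bot {T : Type u} [CommRing T] (s : Set T) (m : ℕ)
    (h : ∀ d : Fin m → T, (∀ i, d i ∈ s) → ∏ i, d i = 0) : Ideal.span s ^ m = ⊥ := by
  rw [Ideal.span, Submodule.span_pow, Submodule.span_eq_bot]
  intro x hx
  rw [Set.mem_pow] at hx
  obtain ⟨d, rfl⟩ := hx
  rw [List.prod_ofFn]
  exact h (fun i => (d i).1) fun i => (d i).2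

/-- If two ring homomorphisms generate a ring then products span it additively. -/
theorem closure_mul_eq_top {B T : Type u} [CommRing B] [CommRing T] (p q : B →+* T)
    (h : Subring.closure (Set.range p ∪ Set.range q) = ⊤) :
    AddSubgroup.closure (Set.range fun ab : B × B => p ab.1 * q ab.2) = ⊤ := by
  refine eq_top_iff.2 fun x _ => ?_
  have hx : x ∈ Subring.closure (Set.range p ∪ Set.range q) := h ▸ Subring.mem_top x
  rw [Subring.mem_closure_iff] at hx
  refine AddSubgroup.closure_mono ?_ hx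
  intro y hy
  have hy' : y ∈ Submonoid.closure (Set.range p.toMonoidHom) ⊔ Submonoid.closure (Set.range q.toMonoidHom) := by
    rw [← Submonoid.closure_union]
    exact hy
  rw [← MonoidHom.coe_mrange, ← MonoidHom.coe_mrange, Submonoid.closure_eq, Submonoid.closure_eq,
    Submonoid.mem_sup] at hy'
  obtain ⟨_, ⟨a, rfl⟩, _, ⟨b, rfl⟩, rfl⟩ := hy'
  exact ⟨(a, b), rfl⟩

theorem bijective_baseChange {A A' B B' W' : CommRingCat.{u}} {fA : A ⟶ B} {gA : A ⟶ A'}
    {uB : B ⟶ B'} {fA' : A' ⟶ B'} (hsq : IsPushout fA gA uB fA') {i₁ i₂ : B' ⟶ W'}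
    (hP : IsPushout fA' fA' i₁ i₂) (Δ : W' ⟶ B') (h₁ : i₁ ≫ Δ = 𝟙 _) (h₂ : i₂ ≫ Δ = 𝟙 _) (n : ℕ)
    {T T' : Type u} [CommRing T] [CommRing T'] (p q : B →+* T) (hpq : ∀ a, p (fA a) = q (fA a))
    (hnil : ∀ b : Fin (n + 1) → B, ∏ i, (q (b i) - p (b i)) = 0)
    (hgen : AddSubgroup.closure (Set.range fun ab : B × B => p ab.1 * q ab.2) = ⊤)
    (ρ : W' →+* T') (hρ : Function.Surjective ρ) (hker : RingHom.ker ρ = RingHom.ker Δ.hom ^ (n + 1))
    (g : T →+ T') (hg : ∀ a b, g (p a * q b) = ρ (i₁ (uB a)) * ρ (i₂ (uB b))) :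
    letI := uB.hom.toAlgebra
    letI := p.toAlgebra
    ∀ Ψ : B' ⊗[B] T →+ T', (∀ x t, Ψ (x ⊗ₜ[B] t) = ρ (i₁ x) * g t) → Function.Bijective Ψ := by
  letI := uB.hom.toAlgebra
  letI := p.toAlgebra
  intro Ψ hΨ
  let iR : T →+* B' ⊗[B] T := (Algebra.TensorProduct.includeRight : T →ₐ[B] B' ⊗[B] T).toRingHom
  let iL : B' →+* B' ⊗[B] T := Algebra.TensorProduct.includeLeftRingHom
  have hbal : ∀ b, iL (uB b) = iR (p b) := fun b => by
    show iL (algebraMap B B' b) = iR (algebraMap B T b)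
    exact ((Algebra.TensorProduct.includeRight : T →ₐ[B] B' ⊗[B] T).commutes b).symm
  let R : CommRingCat.{u} := CommRingCat.of (B' ⊗[B] T)
  let a₁ : B' ⟶ R := CommRingCat.ofHom iL
  have hw : fA ≫ CommRingCat.ofHom (iR.comp q) = gA ≫ fA' ≫ a₁ := by
    rw [← Category.assoc, ← hsq.w, Category.assoc]
    refine CommRingCat.hom_ext (RingHom.ext fun a => ?_)
    show iR (q (fA a)) = iL (uB (fA a))
    rw [hbal, hpq]
  let a₂ : B' ⟶ R := hsq.desc (CommRingCat.ofHom (iR.comp q)) (fA' ≫ a₁) hw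
  have ha₂B : uB ≫ a₂ = CommRingCat.ofHom (iR.comp q) := hsq.inl_desc _ _ hw
  have ha₂A : fA' ≫ a₂ = fA' ≫ a₁ := hsq.inr_desc _ _ hw
  let r : W' ⟶ R := hP.desc a₁ a₂ ha₂A.symm
  have hr₁ : i₁ ≫ r = a₁ := hP.inl_desc _ _ _
  have hr₂ : i₂ ≫ r = a₂ := hP.inr_desc _ _ _
  let J : Ideal (B' ⊗[B] T) := (Ideal.span (Set.range fun b => q b - p b)).map iR
  have hJ : J ^ (n + 1) = ⊥ := by
    rw [← Ideal.map_pow, span_pow_eq_bot _ _ (fun d hd => ?_), Ideal.map_bot]
    choose b hb using hd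
    rw [show d = fun i => q (b i) - p (b i) from funext fun i => (hb i).symm]
    exact hnil b
  let π : R ⟶ CommRingCat.of ((B' ⊗[B] T) ⧸ J) := CommRingCat.ofHom (Ideal.Quotient.mk J)
  have hπ : a₂ ≫ π = a₁ ≫ π := by
    refine hsq.hom_ext ?_ ?_
    · rw [← Category.assoc, ha₂B]
      refine CommRingCat.hom_ext (RingHom.ext fun b => ?_)
      show Ideal.Quotient.mk J (iR (q b)) = Ideal.Quotient.mk J (iL (uB b))
      rw [hbal, Ideal.Quotient.eq, ← map_sub]
      exact Ideal.mem_map_of_mem iR (Ideal.subset_span ⟨b, rfl⟩)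
    · rw [← Category.assoc, ha₂A, Category.assoc]
  have hΔ : r ≫ π = Δ ≫ a₁ ≫ π := by
    refine hP.hom_ext ?_ ?_
    · rw [← Category.assoc, hr₁, ← Category.assoc i₁ Δ, h₁, Category.id_comp]
    · rw [← Category.assoc, hr₂, ← Category.assoc i₂ Δ, h₂, Category.id_comp, hπ]
  have hle : RingHom.ker ρ ≤ RingHom.ker r.hom := by
    rw [hker, ← Ideal.map_eq_bot_iff_le_ker, Ideal.map_pow, ← le_bot_iff, ← hJ]
    refine Ideal.pow_right_mono (Ideal.map_le_iff_le_comap.2 fun c hc => ?_) _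
    rw [Ideal.mem_comap, ← Ideal.Quotient.eq_zero_iff_mem]
    refine (congr($hΔ c) : _).trans ?_
    show π (a₁ (Δ c)) = 0
    rw [show Δ c = 0 from hc, map_zero, map_zero]
  let rbar : T' →+* B' ⊗[B] T := ρ.liftOfSurjective hρ ⟨r.hom, hle⟩
  have hrbar : ∀ c, rbar (ρ c) = r c :=
    RingHom.liftOfRightInverse_comp_apply ρ _ (Function.rightInverse_surjInv hρ) ⟨r.hom, hle⟩
  have hg1 : g 1 = 1 := by
    have h := hg 1 1
    rwa [map_one, map_one, map_one, map_one, map_one, map_one, map_one, one_mul, one_mul] at h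
  have hgmul : ∀ x y, g (x * y) = g x * g y := by
    intro x y
    have hx : x ∈ AddSubgroup.closure (Set.range fun ab : B × B => p ab.1 * q ab.2) :=
      hgen ▸ AddSubgroup.mem_top x
    have hy : y ∈ AddSubgroup.closure (Set.range fun ab : B × B => p ab.1 * q ab.2) :=
      hgen ▸ AddSubgroup.mem_top y
    induction hx using AddSubgroup.closure_induction with
    | mem x hx =>
      obtain ⟨⟨a, b⟩, rfl⟩ := hx
      induction hy using AddSubgroup.closure_induction with
      | mem y hy =>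
        obtain ⟨⟨c, d⟩, rfl⟩ := hy
        show g (p a * q b * (p c * q d)) = g (p a * q b) * g (p c * q d)
        rw [mul_mul_mul_comm, ← map_mul, ← map_mul, hg, hg, hg, map_mul, map_mul, map_mul, map_mul,
          map_mul, map_mul, mul_mul_mul_comm]
      | zero => rw [mul_zero, map_zero, mul_zero]
      | add _ _ _ _ h h' => rw [mul_add, map_add, map_add, mul_add, h, h']
      | neg _ _ h => rw [mul_neg, map_neg, map_neg, mul_neg, h]
    | zero => rw [zero_mul, map_zero, zero_mul]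
    | add _ _ _ _ h h' => rw [add_mul, map_add, map_add, add_mul, h, h']
    | neg _ _ h => rw [neg_mul, map_neg, map_neg, neg_mul, h]
  let G : T →+* T' := { g with map_one' := hg1, map_mul' := hgmul }
  have hGp : ∀ b, g (p b) = ρ (i₁ (uB b)) := fun b => by
    have h := hg b 1
    rwa [map_one, map_one, map_one, map_one, mul_one, mul_one] at h
  have hGq : ∀ b, g (q b) = ρ (i₂ (uB b)) := fun b => by
    have h := hg 1 b
    rwa [map_one, map_one, map_one, map_one, one_mul, one_mul] at h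
  letI : Algebra B T' := (ρ.comp (i₁.hom.comp uB.hom)).toAlgebra
  let Ψ₀ : B' ⊗[B] T →+* T' :=
    (Algebra.TensorProduct.lift (R := B) (S := B) (A := B') (B := T) (C := T')
      { ρ.comp i₁.hom with commutes' := fun _ => rfl }
      { G with commutes' := fun b => hGp b } (fun _ _ => Commute.all _ _)).toRingHom
  have hΨ₀ : ∀ x t, Ψ₀ (x ⊗ₜ[B] t) = ρ (i₁ x) * g t := fun x t => rfl
  have hcomp : Ψ₀.comp r.hom = ρ := by
    have hL : ∀ x, Ψ₀ (a₁ x) = ρ (i₁ x) := fun x => by
      show Ψ₀ (x ⊗ₜ[B] (1 : T)) = _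
      rw [hΨ₀, hg1, mul_one]
    suffices h : r ≫ CommRingCat.ofHom Ψ₀ = CommRingCat.ofHom ρ from congr($(h).hom)
    refine hP.hom_ext ?_ ?_
    · rw [← Category.assoc, hr₁]
      exact CommRingCat.hom_ext (RingHom.ext hL)
    · rw [← Category.assoc, hr₂]
      refine hsq.hom_ext ?_ ?_
      · rw [← Category.assoc, ha₂B]
        refine CommRingCat.hom_ext (RingHom.ext fun b => ?_)
        show Ψ₀ ((1 : B') ⊗ₜ[B] q b) = ρ (i₂ (uB b))
        rw [hΨ₀, map_one, map_one, one_mul, hGq]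
      · rw [← Category.assoc, ha₂A]
        refine CommRingCat.hom_ext (RingHom.ext fun a => (hL (fA' a)).trans ?_)
        exact congrArg ρ (congr($(hP.w) a))
  have hG1 : ∀ t, rbar (g t) = iR t := by
    intro t
    have ht : t ∈ AddSubgroup.closure (Set.range fun ab : B × B => p ab.1 * q ab.2) :=
      hgen ▸ AddSubgroup.mem_top t
    induction ht using AddSubgroup.closure_induction with
    | mem t ht =>
      obtain ⟨⟨a, b⟩, rfl⟩ := ht
      show rbar (g (p a * q b)) = iR (p a * q b)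
      rw [hg, map_mul, hrbar, hrbar, map_mul, ← hbal]
      exact congrArg₂ (· * ·) (congr($hr₁ (uB a))) ((congr($hr₂ (uB b))).trans (congr($ha₂B b)))
    | zero => rw [map_zero, map_zero, map_zero]
    | add _ _ _ _ h h' => rw [map_add, map_add, map_add, h, h']
    | neg _ _ h => rw [map_neg, map_neg, map_neg, h]
  have heq : ∀ z, Ψ z = Ψ₀ z := by
    intro z
    induction z using TensorProduct.induction_on with
    | zero => rw [map_zero, map_zero]
    | tmul x t => rw [hΨ, hΨ₀]
    | add a b ha hb => rw [map_add, map_add, ha, hb]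
  rw [show (Ψ : B' ⊗[B] T → T') = Ψ₀ from funext heq]
  refine ⟨Function.LeftInverse.injective (g := rbar) fun z => ?_, fun c => ?_⟩
  · induction z using TensorProduct.induction_on with
    | zero => rw [map_zero, map_zero]
    | tmul x t =>
      rw [hΨ₀, map_mul, hrbar, hG1, show r (i₁ x) = iL x from congr($hr₁ x)]
      show (x ⊗ₜ[B] (1 : T)) * ((1 : B') ⊗ₜ[B] t) = x ⊗ₜ[B] t
      rw [Algebra.TensorProduct.tmul_mul_tmul, mul_one, one_mul]
    | add a b ha hb => rw [map_add, map_add, ha, hb]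
  · obtain ⟨w, rfl⟩ := hρ c
    exact ⟨r w, congr($hcomp w)⟩

end GrothLib.PPBC29
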