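import Groth.Agent.Lib.PPBC29.Algebra
import Groth.Agent.Lib.PPGen.AffSections
import Groth.Agent.Lib.QCoh.PullbackSections
import Groth.Agent.Lib.QCoh.Filtration
import Groth.Agent.Lib.Cohom.Serre
import Groth.Agent.S5959

/-!
# Base change of sheaves of principal parts
-/

set_option autoImplicit false
set_option linter.all false
set_option backward.isDefEq.respectTransparency false
set_option maxHeartbeats 2000000

universe u

open CategoryTheory CategoryTheory.Limits AlgebraicGeometry Opposite TopologicalSpace TensorProduct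

noncomputable section

namespace GrothLib.PPBC29

open PrinPart GrothLib.PPGen

variable {X S : Scheme.{u}} (f : X ⟶ S) (n : ℕ)

theorem pfn_surjective (U : X.Opens) : Function.Surjective (pfn f n U) := fun t => by
  obtain ⟨s, hs⟩ := (ConcreteCategory.bijective_of_isIso
    ((OX.pullUnitIso (pr2 f n)).hom.app (pr1 f n ⁻¹ᵁ U))).2
      (OmegaSh.strSect (nbhd f n) (pr1 f n ⁻¹ᵁ U) t)
  exact ⟨s, congrArg (OmegaSh.fnSect (nbhd f n) (pr1 f n ⁻¹ᵁ U)) hs⟩

/-- Over affine opens the functions on the neighbourhood are sums of products. -/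
theorem closure_fn_eq_top {V : S.Opens} (hV : IsAffineOpen V) {U : X.Opens} (hU : IsAffineOpen U)
    (hUV : U ≤ f ⁻¹ᵁ V) :
    AddSubgroup.closure (Set.range fun ab : Γ(X, U) × Γ(X, U) => pr1Fn f n U ab.1 * pr2Fn f n U ab.2) = ⊤ := by
  refine closure_mul_eq_top _ _ (top_le_iff.1 ?_)
  obtain ⟨-, hgen⟩ := closure_appLE_eq_top f hV hU hUV
  obtain ⟨hsurj, -⟩ := restrictFn_surjective_and_ker f n hV hU hUV
  intro t _
  obtain ⟨c, rfl⟩ := hsurj t
  have hc : c ∈ (Subring.closure (Set.range (pr1Fn f n U) ∪ Set.range (pr2Fn f n U))).comap (restrictFn f n U) := by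
    refine (Subring.closure_le.2 ?_) (hgen.symm ▸ Subring.mem_top c)
    rintro _ (⟨a, rfl⟩ | ⟨a, rfl⟩)
    · exact Subring.subset_closure (Or.inl ⟨a, (restrictFn_fst f n U a).symm⟩)
    · exact Subring.subset_closure (Or.inr ⟨a, (restrictFn_snd f n U a).symm⟩)
  exact hc

variable {X' S' : Scheme.{u}} {f} {g : S' ⟶ S} {u : X' ⟶ X} {f' : X' ⟶ S'}

theorem dn_app_le (U : X.Opens) {U' : X'.Opens} (e : U' ≤ u ⁻¹ᵁ U)
    (φ : (Scheme.Modules.pullback u).obj (P f n) ⟶ P f' n) (hφ : IsPMap f f' u n φ)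
    (b : Γ(X, U)) :
    φ.app U' (QCoh.pullSec u (P f n) e (dn f n U b)) = dn f' n U' (u.appLE U U' e b) := by
  have h1 := congr($((Scheme.Modules.Hom.mapPresheaf φ).naturality (homOfLE e).op)
    (OmegaSh.pullSect u (P f n) U (dn f n U b)))
  refine Eq.trans (h1 : _) ?_
  refine (congrArg ((P f' n).presheaf.map (homOfLE e).op) (hφ U b)).trans ?_
  exact (dP_map f' n (Coh.structureModule X') e (OmegaSh.strSect X' (u ⁻¹ᵁ U) (u.app U b))).symm

theorem bijective_app (hsq : IsPullback u f' f g)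
    (φ : (Scheme.Modules.pullback u).obj (P f n) ⟶ P f' n) (hφ : IsPMap f f' u n φ)
    [(P f n).IsQuasicoherent]
    {V : S.Opens} (hV : IsAffineOpen V) {U : X.Opens} (hU : IsAffineOpen U) (hUV : U ≤ f ⁻¹ᵁ V)
    {V' : S'.Opens} (hV' : IsAffineOpen V') (hV'V : V' ≤ g ⁻¹ᵁ V) :
    Function.Bijective (φ.app (u ⁻¹ᵁ U ⊓ f' ⁻¹ᵁ V')) := by
  set U' := u ⁻¹ᵁ U ⊓ f' ⁻¹ᵁ V' with hU'def
  have hU'U : U' ≤ u ⁻¹ᵁ U := inf_le_left
  have hU'V : U' ≤ f' ⁻¹ᵁ V' := inf_le_right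
  have hU' : IsAffineOpen U' := by
    haveI : IsAffine _ := hV
    haveI : IsAffine _ := hU
    haveI : IsAffine _ := hV'
    exact .of_isIso (Scheme.Hom.isPullback_resLE hsq (US := V) (UT := V') (UX := U) (UY := U')
      hV'V hUV rfl).isoPullback.hom
  have hpo := (isIso_pushoutSection_iff hsq (US := V) (UT := V') (UX := U) (UY := U') hV'V hUV rfl).1
    (isIso_pushoutSection_of_isAffineOpen hsq hV'V hUV rfl hV hV' hU)
  set W' := pullback.fst f' f' ⁻¹ᵁ U' ⊓ pullback.snd f' f' ⁻¹ᵁ U' with hW'def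
  have hP : IsPushout (f'.appLE V' U' hU'V) (f'.appLE V' U' hU'V)
      ((pullback.fst f' f').appLE U' W' inf_le_left) ((pullback.snd f' f').appLE U' W' inf_le_right) :=
    (isIso_pushoutSection_iff (IsPullback.of_hasPullback f' f')
      (US := V') (UT := U') (UX := U') (UY := W') hU'V hU'V rfl).1
      (isIso_pushoutSection_of_isAffineOpen (IsPullback.of_hasPullback f' f') hU'V hU'V rfl hV' hU' hU')
  let Δ := (pullback.diagonal f').appLE W' U' (le_preimage_diag f' U')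
  have hid : (𝟙 X' : X' ⟶ X').appLE U' U' (le_refl _) = 𝟙 _ := by
    simp [Scheme.Hom.appLE]
    exact X'.presheaf.map_id _
  have h₁ : (pullback.fst f' f').appLE U' W' inf_le_left ≫ Δ = 𝟙 _ := by
    rw [Scheme.Hom.appLE_comp_appLE, ← hid]
    congr 1
    exact pullback.diagonal_fst f'
  have h₂ : (pullback.snd f' f').appLE U' W' inf_le_right ≫ Δ = 𝟙 _ := by
    rw [Scheme.Hom.appLE_comp_appLE, ← hid]
    congr 1
    exact pullback.diagonal_snd f'
  obtain ⟨hρ, hker⟩ := restrictFn_surjective_and_ker f' n hV' hU' hU'V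
  let p := pr1Fn f n U
  let q := pr2Fn f n U
  have hpq : ∀ a, p (f.appLE V U hUV a) = q (f.appLE V U hUV a) := fun a => pr1Fn_base f n V U hUV a
  have hnil : ∀ b : Fin (n + 1) → Γ(X, U), ∏ i, (q (b i) - p (b i)) = 0 := fun b =>
    prod_eq_zero f n _ _ fun i => by
      rw [map_sub, toNbhd_app_pr2Fn, toNbhd_app_pr1Fn, sub_self]
  -- sections of principal parts as functions
  let T := Γ(nbhd f n, pr1 f n ⁻¹ᵁ U)
  letI : Algebra Γ(X, U) Γ(X', U') := (u.appLE U U' hU'U).hom.toAlgebra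
  letI : Algebra Γ(X, U) Γ(nbhd f n, pr1 f n ⁻¹ᵁ U) := p.toAlgebra
  let e : Γ(P f n, U) ≃ₗ[Γ(X, U)] Γ(nbhd f n, pr1 f n ⁻¹ᵁ U) :=
    LinearEquiv.ofBijective { toFun := pfn f n U, map_add' := pfn_add f n U,
                              map_smul' := fun a s => pfn_smul f n U a s }
      ⟨pfn_injective f n U, pfn_surjective f n U⟩
  let pf' : Γ(P f' n, U') →+ Γ(nbhd f' n, pr1 f' n ⁻¹ᵁ U') := AddMonoidHom.mk' (pfn f' n U') (pfn_add f' n U')
  let gA : Γ(nbhd f n, pr1 f n ⁻¹ᵁ U) →+ Γ(nbhd f' n, pr1 f' n ⁻¹ᵁ U') :=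
    pf'.comp ((φ.app U').hom.comp ((QCoh.pullSec u (P f n) hU'U).comp e.symm.toAddEquiv.toAddMonoidHom))
  have he : ∀ a b, e.symm (p a * q b) = a • dn f n U b := fun a b => by
    rw [LinearEquiv.symm_apply_eq, map_smul]
    show p a * q b = p a * pfn f n U (dn f n U b)
    rw [pfn_dn]
  have hg : ∀ a b, gA (p a * q b) =
      restrictFn f' n U' ((pullback.fst f' f').appLE U' W' inf_le_left (u.appLE U U' hU'U a)) *
        restrictFn f' n U' ((pullback.snd f' f').appLE U' W' inf_le_right (u.appLE U U' hU'U b)) := by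
    intro a b
    show pfn f' n U' (φ.app U' (QCoh.pullSec u (P f n) hU'U (e.symm (p a * q b)))) = _
    rw [he, QCoh.pullSec_smul, Scheme.Modules.Hom.app_smul, dn_app_le n U hU'U φ hφ, pfn_smul, pfn_dn,
      restrictFn_fst, restrictFn_snd]
  let σ := QCoh.sectionsMap u (P f n) hU'U (rfl : algebraMap Γ(X, U) Γ(X', U') = _)
  let κ := (e.symm.lTensor Γ(X', U')).toAddEquiv
  let Ψ : Γ(X', U') ⊗[Γ(X, U)] Γ(nbhd f n, pr1 f n ⁻¹ᵁ U) →+ Γ(nbhd f' n, pr1 f' n ⁻¹ᵁ U') :=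
    pf'.comp ((φ.app U').hom.comp (σ.toAddMonoidHom.comp κ.toAddMonoidHom))
  have hΨ : ∀ x t, Ψ (x ⊗ₜ t) =
      restrictFn f' n U' ((pullback.fst f' f').appLE U' W' inf_le_left x) * gA t := by
    intro x t
    show pfn f' n U' (φ.app U' (x • QCoh.pullSec u (P f n) hU'U (e.symm t))) = _
    rw [Scheme.Modules.Hom.app_smul, pfn_smul, restrictFn_fst]
    rfl
  have hbij : Function.Bijective Ψ :=
    bijective_baseChange hpo hP Δ h₁ h₂ n p q hpq hnil (closure_fn_eq_top f n hV hU hUV)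
      (restrictFn f' n U') hρ hker gA hg Ψ hΨ
  have hb1 : Function.Bijective (σ ∘ κ) :=
    (QCoh.bijective_sectionsMap u (P f n) hU'U rfl hU hU').comp κ.bijective
  have hb2 : Function.Bijective (φ.app U' ∘ (σ ∘ κ)) := by
    have hinj : Function.Injective (pfn f' n U') := pfn_injective f' n U'
    have hb : Function.Bijective (pfn f' n U' ∘ (φ.app U' ∘ (σ ∘ κ))) := hbij
    exact ⟨hb.1.of_comp, Function.Surjective.of_comp_left hb.2 hinj⟩
  exact (Function.Bijective.of_comp_iff _ hb1).1 hb2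

/-- **Principal parts commute with base change.** -/
theorem isIso_pMap (hsq : IsPullback u f' f g)
    (φ : (Scheme.Modules.pullback u).obj (P f n) ⟶ P f' n) (hφ : IsPMap f f' u n φ) : IsIso φ := by
  haveI hQ : (P f n).IsQuasicoherent :=
    Groth.Agent.S5959.result f n _ (Cohom.isQuasicoherent_structureModule X)
  haveI hQ' : (P f' n).IsQuasicoherent :=
    Groth.Agent.S5959.result f' n _ (Cohom.isQuasicoherent_structureModule X')
  haveI := FittSheaf.isQuasicoherent_pullback u (P f n)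
  let ι := {p : S.affineOpens × X.affineOpens × S'.affineOpens //
    p.2.1.1 ≤ f ⁻¹ᵁ p.1.1 ∧ p.2.2.1 ≤ g ⁻¹ᵁ p.1.1}
  let U' : ι → X'.Opens := fun p => u ⁻¹ᵁ p.1.2.1.1 ⊓ f' ⁻¹ᵁ p.1.2.2.1
  refine QCoh.isIso_of_bijective_on_cover φ U' ?_ (fun p => ?_)
    fun p => bijective_app n hsq φ hφ p.1.1.2 p.1.2.1.2 p.2.1 p.1.2.2.2 p.2.2
  · refine top_le_iff.1 fun x _ => ?_
    obtain ⟨V, hV, hxV, -⟩ := exists_isAffineOpen_mem_and_subset (x := f (u x)) (U := (⊤ : S.Opens)) trivial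
    obtain ⟨U, hU, hxU, hUV⟩ := exists_isAffineOpen_mem_and_subset (x := u x) (U := f ⁻¹ᵁ V) hxV
    have hx' : f' x ∈ g ⁻¹ᵁ V := by
      show g (f' x) ∈ V
      rw [← Scheme.Hom.comp_apply, ← hsq.w, Scheme.Hom.comp_apply]
      exact hxV
    obtain ⟨V', hV', hxV', hV'V⟩ := exists_isAffineOpen_mem_and_subset (x := f' x) (U := g ⁻¹ᵁ V) hx'
    exact Opens.mem_iSup.2 ⟨⟨(⟨V, hV⟩, ⟨U, hU⟩, ⟨V', hV'⟩), hUV, hV'V⟩, hxU, hxV'⟩
  · haveI : IsAffine _ := p.1.1.2
    haveI : IsAffine _ := p.1.2.1.2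
    haveI : IsAffine _ := p.1.2.2.2
    exact .of_isIso (Scheme.Hom.isPullback_resLE hsq (US := p.1.1.1) (UT := p.1.2.2.1)
      (UX := p.1.2.1.1) (UY := U' p) p.2.2 p.2.1 rfl).isoPullback.hom

end GrothLib.PPBC29
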